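import Mathlib
import Cfsg.Prelude.Def_Transfer
import Cfsg.Agent.Transfer.PNilpotentBasic

/-!
# Groups in which the normalizers of the nontrivial subgroups of a cyclic subgroup of even order
# coincide

`EqNorm G` is the hypothesis of S3730.  Basic facts: elementwise forms, inheritance by subgroups, and
the centralizers of involutions have normal 2-complements.
-/

set_option autoImplicit false

namespace Cfsg.Agent.H439.NC

open Cfsg

universe u v

/-- every nontrivial subgroup of a cyclic subgroup of even order has the same normalizer as the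
whole cyclic subgroup. -/
def EqNorm (G : Type u) [Group G] : Prop :=
  ∀ X : Subgroup G, IsCyclic ↥X → Even (Nat.card ↥X) → ∀ Y : Subgroup G, Y ≤ X → Y ≠ ⊥ →
      Subgroup.normalizer (X : Set G) = Subgroup.normalizer (Y : Set G)

variable {G : Type u} [Group G]

theorem mem_normalizer_map {H : Type v} [Group H] (f : H →* G) (hf : Function.Injective f)
    (X : Subgroup H) (x : H) : x ∈ Subgroup.normalizer (X : Set H) ↔
      f x ∈ Subgroup.normalizer ((X.map f : Subgroup G) : Set G) := by
  rw [Subgroup.mem_normalizer_iff, Subgroup.mem_normalizer_iff]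
  constructor
  · intro h y
    constructor
    · rintro ⟨z, hz, rfl⟩
      exact ⟨x * z * x⁻¹, (h z).1 hz, by simp⟩
    · rintro ⟨z, hz, hzy⟩
      refine ⟨x⁻¹ * z * x, (h _).2 (by simpa [mul_assoc] using hz), ?_⟩
      rw [map_mul, map_mul, hzy, map_inv]
      group
  · intro h y
    have h1 := h (f y)
    rw [← map_inv, ← map_mul, ← map_mul,
      Subgroup.mem_map_iff_mem hf, Subgroup.mem_map_iff_mem hf] at h1
    exact h1

theorem EqNorm.of_injective (h : EqNorm G) {H : Type v} [Group H] (f : H →* G)
    (hf : Function.Injective f) : EqNorm H := by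
  intro X hX hev Y hYX hY
  have h1 := h (X.map f) ((X.equivMapOfInjective f hf).isCyclic.1 hX)
    (by rwa [← Nat.card_congr (X.equivMapOfInjective f hf).toEquiv]) (Y.map f)
    (Subgroup.map_mono hYX) (by
      intro h0
      exact hY ((Subgroup.map_eq_bot_iff_of_injective _ hf).1 h0))
  ext x
  rw [mem_normalizer_map f hf, mem_normalizer_map f hf, h1]

theorem EqNorm.subgroup (h : EqNorm G) (H : Subgroup G) : EqNorm H :=
  h.of_injective H.subtype H.subtype_injective

theorem EqNorm.congr (h : EqNorm G) {H : Type v} [Group H] (e : H ≃* G) : EqNorm H :=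
  h.of_injective e.toMonoidHom e.injective

section Fin

variable [Finite G]

theorem mem_normalizer_zpowers {g y : G} :
    g ∈ Subgroup.normalizer ((Subgroup.zpowers y : Subgroup G) : Set G) ↔
      g * y * g⁻¹ ∈ Subgroup.zpowers y := by
  constructor
  · intro h
    exact (Subgroup.mem_normalizer_iff.1 h y).1 (Subgroup.mem_zpowers y)
  · intro h
    have hfin : Finite ((Subgroup.zpowers y : Subgroup G) : Set G) := inferInstance
    refine Subgroup.mem_normalizer_fintype fun z hz => ?_
    obtain ⟨k, rfl⟩ := Subgroup.mem_zpowers_iff.1 hz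
    rw [← conj_zpow]
    exact Subgroup.zpow_mem _ h k

theorem EqNorm.conj_mem_iff (h : EqNorm G) {b y : G} (hb : Even (orderOf b))
    (hy : y ∈ Subgroup.zpowers b) (hy1 : y ≠ 1) (g : G) :
    g * b * g⁻¹ ∈ Subgroup.zpowers b ↔ g * y * g⁻¹ ∈ Subgroup.zpowers y := by
  rw [← mem_normalizer_zpowers, ← mem_normalizer_zpowers,
    h (Subgroup.zpowers b) inferInstance (by rwa [Nat.card_zpowers]) (Subgroup.zpowers y)
      (by rwa [Subgroup.zpowers_le]) (by rwa [Ne, Subgroup.zpowers_eq_bot])]

theorem conj_mem_zpowers_invol {t g : G} (ht : orderOf t = 2) :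
    g * t * g⁻¹ ∈ Subgroup.zpowers t ↔ Commute g t := by
  constructor
  · intro h
    have h1 : g * t * g⁻¹ ≠ 1 := by
      intro h0
      rw [conj_eq_one_iff] at h0
      rw [h0, orderOf_one] at ht
      omega
    obtain ⟨k, hk⟩ := Subgroup.mem_zpowers_iff.1 h
    have ht2 : t ^ 2 = 1 := by rw [← ht]; exact pow_orderOf_eq_one t
    have h2 : t ^ k = 1 ∨ t ^ k = t := by
      rcases Int.even_or_odd k with ⟨m, rfl⟩ | ⟨m, rfl⟩
      · left
        rw [← two_mul, zpow_mul]
        norm_cast
        rw [ht2, one_zpow]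
      · right
        rw [zpow_add, zpow_mul]
        norm_cast
        rw [ht2, one_zpow, one_mul, pow_one]
    rcases h2 with h2 | h2
    · exact absurd (hk.symm.trans h2) h1
    · rw [h2] at hk
      exact eq_mul_inv_iff_mul_eq.1 hk |>.symm
  · intro h
    rw [h.eq, mul_inv_cancel_right]
    exact Subgroup.mem_zpowers t

/-- `t` an involution of `⟨b⟩`: the normalizer of `⟨b⟩` is `C(t)`. -/
theorem EqNorm.norm_invol (h : EqNorm G) {b t : G} (ht : orderOf t = 2)
    (hb : t ∈ Subgroup.zpowers b) (g : G) :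
    g * b * g⁻¹ ∈ Subgroup.zpowers b ↔ Commute g t := by
  have h1 : Even (orderOf b) := by
    have := orderOf_dvd_of_mem_zpowers hb
    rw [ht] at this
    exact (even_iff_two_dvd).2 this
  rw [h.conj_mem_iff h1 hb (by rintro rfl; rw [orderOf_one] at ht; omega) g,
    conj_mem_zpowers_invol ht]

/-- `x ≠ 1` of odd order commuting with the involution `t`: the normalizer of `⟨x⟩` is `C(t)`. -/
theorem EqNorm.norm_odd (h : EqNorm G) {x t : G} (ht : orderOf t = 2) (hx : Odd (orderOf x))
    (hx1 : x ≠ 1) (hc : Commute x t) (g : G) :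
    g * x * g⁻¹ ∈ Subgroup.zpowers x ↔ Commute g t := by
  have ht2 : t ∈ Subgroup.zpowers (x * t) := by
    obtain ⟨m, hm⟩ := hx
    have h1 : (x * t) ^ orderOf x = t := by
      have ht2 : t ^ 2 = 1 := by rw [← ht]; exact pow_orderOf_eq_one t
      rw [hc.mul_pow, pow_orderOf_eq_one, one_mul, hm, pow_succ, pow_mul, ht2, one_pow, one_mul]
    have h2 := Subgroup.pow_mem _ (Subgroup.mem_zpowers (x * t)) (orderOf x)
    rwa [h1] at h2
  have hx2 : x ∈ Subgroup.zpowers (x * t) := by
    have := Subgroup.mul_mem _ (Subgroup.mem_zpowers (x * t)) (Subgroup.inv_mem _ ht2)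
    rwa [mul_inv_cancel_right] at this
  have h1 : Even (orderOf (x * t)) := by
    have := orderOf_dvd_of_mem_zpowers ht2
    rw [ht] at this
    exact (even_iff_two_dvd).2 this
  rw [← h.conj_mem_iff h1 hx2 hx1 g, h.norm_invol ht ht2]

theorem odd_orderOf_mul {H : Type v} [Group H] [Finite H] {x y : H}
    (hx : (Subgroup.zpowers x).Normal) (hxo : Odd (orderOf x)) (hyo : Odd (orderOf y)) :
    Odd (orderOf (x * y)) := by
  have h1 : x * y ∈ Subgroup.zpowers y ⊔ Subgroup.zpowers x :=
    Subgroup.mul_mem _ (Subgroup.mem_sup_right (Subgroup.mem_zpowers x))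
      (Subgroup.mem_sup_left (Subgroup.mem_zpowers y))
  have h2 := Subgroup.orderOf_dvd_natCard _ h1
  have h3 : Nat.card ↥(Subgroup.zpowers y ⊔ Subgroup.zpowers x) ∣ orderOf y * orderOf x := by
    have h4 : (⊥ : Subgroup H).relIndex (Subgroup.zpowers x) *
        (Subgroup.zpowers x).relIndex (Subgroup.zpowers y ⊔ Subgroup.zpowers x) =
        (⊥ : Subgroup H).relIndex (Subgroup.zpowers y ⊔ Subgroup.zpowers x) :=
      Subgroup.relIndex_mul_relIndex _ _ _ bot_le le_sup_right
    rw [Subgroup.relIndex_bot_left, Subgroup.relIndex_bot_left, Subgroup.relIndex_sup_right,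
      Nat.card_zpowers] at h4
    rw [← h4, mul_comm (orderOf x)]
    refine Nat.mul_dvd_mul_right ?_ _
    have := Subgroup.relIndex_dvd_card (Subgroup.zpowers x) (Subgroup.zpowers y)
    rwa [Nat.card_zpowers] at this
  exact Odd.of_dvd_nat (hyo.mul hxo) (h2.trans h3)

/-- The centralizers of involutions have normal 2-complements. -/
theorem EqNorm.hnc (h : EqNorm G) (t : G) (ht : orderOf t = 2) :
    HasNormalPComplement 2 ↥(Subgroup.centralizer ({t} : Set G)) := by
  have hfact : Fact (Nat.Prime 2) := ⟨Nat.prime_two⟩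
  have hn : ∀ x : ↥(Subgroup.centralizer ({t} : Set G)), Odd (orderOf x) →
      (Subgroup.zpowers x).Normal := by
    intro x hx
    by_cases hx1 : x = 1
    · rw [hx1, Subgroup.zpowers_one_eq_bot]; infer_instance
    have hc : ∀ g : ↥(Subgroup.centralizer ({t} : Set G)), Commute (g : G) t := by
      intro g
      exact (Subgroup.mem_centralizer_singleton_iff.1 g.2)
    have h1 : ∀ g : ↥(Subgroup.centralizer ({t} : Set G)), g * x * g⁻¹ ∈ Subgroup.zpowers x := by
      intro g
      have h2 := (h.norm_odd (x := (x : G)) ht (by rwa [Subgroup.orderOf_coe])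
        (by simpa using hx1) (hc x) (g : G)).2 (hc g)
      obtain ⟨k, hk⟩ := Subgroup.mem_zpowers_iff.1 h2
      exact Subgroup.mem_zpowers_iff.2 ⟨k, Subtype.ext (by simpa using hk)⟩
    refine ⟨fun z hz g => ?_⟩
    obtain ⟨k, rfl⟩ := Subgroup.mem_zpowers_iff.1 hz
    rw [← conj_zpow]
    exact Subgroup.zpow_mem _ (h1 g) k
  rw [Transfer.PNilpotentBasic.hnc_iff]
  have hodd : ∀ x ∈ pResidual 2 ↥(Subgroup.centralizer ({t} : Set G)), Odd (orderOf x) := by
    intro x hx
    rw [Transfer.Residual.pResidual_def] at hx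
    induction hx using Subgroup.closure_induction with
    | mem x hx => exact Nat.coprime_two_right.1 hx
    | one => rw [orderOf_one]; exact odd_one
    | mul x y _ _ hx hy => exact odd_orderOf_mul (hn x hx) hx hy
    | inv x _ hx => rwa [orderOf_inv]
  rw [Nat.coprime_two_right, ← Nat.not_even_iff_odd]
  intro hev
  obtain ⟨z, hz⟩ := exists_prime_orderOf_dvd_card' 2 (even_iff_two_dvd.1 hev)
  have h1 := hodd z.1 z.2
  rw [Subgroup.orderOf_coe, hz] at h1
  exact absurd h1 (by decide)

end Fin

end Cfsg.Agent.H439.NC
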