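import Mathlib
import Cfsg.Agent.H439.NC.Basic
import Cfsg.Agent.H199.PslGraphField
import Cfsg.Agent.Lib.FieldAutCard

/-!
# Groups between `PSL₂(F)` and its automorphism group satisfying the hypothesis of S3730
-/

set_option autoImplicit false

namespace Cfsg.Agent.H439.NC

open Cfsg Matrix
open Cfsg.Agent.ClassicalGeometry.AutPSL.Root
open Cfsg.Agent.H199.PslAut

universe u v

section coe

variable {M : Type u} [Group M] [Finite M] {Γ : Subgroup M}

theorem mem_zpowers_coe {x y : ↥Γ} : y ∈ Subgroup.zpowers x ↔ (y : M) ∈ Subgroup.zpowers (x : M) := by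
  rw [Subgroup.mem_zpowers_iff, Subgroup.mem_zpowers_iff]
  exact exists_congr fun k => by rw [← Subgroup.coe_zpow, Subtype.coe_inj]

theorem norm_odd_coe (h : EqNorm ↥Γ) {x t g : M} (hx : x ∈ Γ) (ht : t ∈ Γ) (hg : g ∈ Γ)
    (ht2 : orderOf t = 2) (hxo : Odd (orderOf x)) (hx1 : x ≠ 1) (hc : Commute x t) :
    g * x * g⁻¹ ∈ Subgroup.zpowers x ↔ Commute g t := by
  have h1 := h.norm_odd (x := ⟨x, hx⟩) (t := ⟨t, ht⟩) (by rwa [Subgroup.orderOf_mk])
    (by rwa [Subgroup.orderOf_mk]) (fun h => hx1 (congrArg Subtype.val h))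
    (Subtype.ext hc) ⟨g, hg⟩
  rw [mem_zpowers_coe] at h1
  refine h1.trans ⟨fun h => congrArg Subtype.val h, fun h => Subtype.ext h⟩

theorem norm_invol_coe (h : EqNorm ↥Γ) {b t g : M} (hb : b ∈ Γ) (hg : g ∈ Γ)
    (ht2 : orderOf t = 2) (htb : t ∈ Subgroup.zpowers b) :
    g * b * g⁻¹ ∈ Subgroup.zpowers b ↔ Commute g t := by
  have ht : t ∈ Γ := (Subgroup.zpowers_le.2 hb) htb
  have h1 := h.norm_invol (b := ⟨b, hb⟩) (t := ⟨t, ht⟩) (by rwa [Subgroup.orderOf_mk])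
    (by rw [mem_zpowers_coe]; exact htb) ⟨g, hg⟩
  rw [mem_zpowers_coe] at h1
  refine h1.trans ⟨fun h => congrArg Subtype.val h, fun h => Subtype.ext h⟩

omit [Finite M] in
theorem commute_of_mem_zpowers {x y : M} (h : y ∈ Subgroup.zpowers x) : Commute y x := by
  obtain ⟨k, rfl⟩ := Subgroup.mem_zpowers_iff.1 h
  exact (Commute.refl x).zpow_left k

end coe

section mats

variable {F : Type u} [Field F]

/-- the standard Weyl element -/
def sw : SpecialLinearGroup (Fin 2) F := ⟨!![0, 1; -1, 0], by simp [Matrix.det_fin_two]⟩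

/-- the standard unipotent element -/
def sv : SpecialLinearGroup (Fin 2) F := ⟨!![1, 1; 0, 1], by simp [Matrix.det_fin_two]⟩

theorem coe_sw : ((sw : SpecialLinearGroup (Fin 2) F) : GL (Fin 2) F).1 = !![0, 1; -1, 0] := rfl

theorem coe_sv : ((sv : SpecialLinearGroup (Fin 2) F) : GL (Fin 2) F).1 = !![1, 1; 0, 1] := rfl

/-- diagonal matrices -/
def gd (a b : Fˣ) : GL (Fin 2) F where
  val := !![(a : F), 0; 0, b]
  inv := !![((a⁻¹ : Fˣ) : F), 0; 0, ((b⁻¹ : Fˣ) : F)]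
  val_inv := by
    ext i j
    fin_cases i <;> fin_cases j <;> simp [Matrix.mul_apply, Fin.sum_univ_two]
  inv_val := by
    ext i j
    fin_cases i <;> fin_cases j <;> simp [Matrix.mul_apply, Fin.sum_univ_two]

theorem coe_gd (a b : Fˣ) : (gd a b).1 = !![(a : F), 0; 0, b] := rfl

theorem gd_mul (a b c d : Fˣ) : gd a b * gd c d = gd (a * c) (b * d) := by
  apply Units.ext
  show !![(a : F), 0; 0, b] * !![(c : F), 0; 0, d] = !![((a * c : Fˣ) : F), 0; 0, ((b * d : Fˣ) : F)]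
  ext i j
  fin_cases i <;> fin_cases j <;> simp [Matrix.mul_apply, Fin.sum_univ_two]

theorem det_gd (a b : Fˣ) : GeneralLinearGroup.det (gd a b) = a * b := by
  apply Units.ext
  show (!![(a : F), 0; 0, b]).det = _
  simp [Matrix.det_fin_two]

theorem gd_one : gd (1 : Fˣ) 1 = 1 := by
  apply Units.ext
  show !![((1 : Fˣ) : F), 0; 0, ((1 : Fˣ) : F)] = 1
  ext i j
  fin_cases i <;> fin_cases j <;> simp

theorem gd_pow (a b : Fˣ) (n : ℕ) : gd a b ^ n = gd (a ^ n) (b ^ n) := by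
  induction n with
  | zero => rw [pow_zero, pow_zero, pow_zero, gd_one]
  | succ n ih => rw [pow_succ, ih, gd_mul, ← pow_succ, ← pow_succ]

theorem mapGL_gd (σ : F ≃+* F) (a b : Fˣ) :
    mapGL σ (gd a b) = gd (Units.map (σ : F →* F) a) (Units.map (σ : F →* F) b) := by
  apply Units.ext
  rw [coe_mapGL, coe_gd, coe_gd]
  ext i j
  fin_cases i <;> fin_cases j <;> simp

theorem mapGL_sw (σ : F ≃+* F) : mapGL σ ((sw : SpecialLinearGroup (Fin 2) F) : GL (Fin 2) F) =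
    ((sw : SpecialLinearGroup (Fin 2) F) : GL (Fin 2) F) := by
  apply Units.ext
  rw [coe_mapGL, coe_sw]
  ext i j
  fin_cases i <;> fin_cases j <;> simp

theorem mapGL_sv (σ : F ≃+* F) : mapGL σ ((sv : SpecialLinearGroup (Fin 2) F) : GL (Fin 2) F) =
    ((sv : SpecialLinearGroup (Fin 2) F) : GL (Fin 2) F) := by
  apply Units.ext
  rw [coe_mapGL, coe_sv]
  ext i j
  fin_cases i <;> fin_cases j <;> simp

/-- equality in the automorphism group, on matrices -/
theorem exists_smul_of_Psi_eq {A B : GL (Fin 2) F} (h : Psi 2 F A = Psi 2 F B) :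
    ∃ c : F, c ≠ 0 ∧ A.1 = c • B.1 := by
  obtain ⟨u, hu⟩ := (Psi_eq_Psi_iff le_rfl).1 h
  refine ⟨u, u.ne_zero, ?_⟩
  rw [hu]
  show (scalar (Fin 2) (u : F)) * B.1 = _
  rw [scalar_apply, ← smul_one_eq_diagonal, Matrix.smul_mul, one_mul]

theorem Psi_eq_of_smul {A B : GL (Fin 2) F} {c : F} (hc : c ≠ 0) (h : A.1 = c • B.1) :
    Psi 2 F A = Psi 2 F B := by
  refine (Psi_eq_Psi_iff le_rfl).2 ⟨Units.mk0 c hc, Units.ext ?_⟩
  rw [h]
  show _ = (scalar (Fin 2) (c : F)) * B.1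
  rw [scalar_apply, ← smul_one_eq_diagonal, Matrix.smul_mul, one_mul]

theorem Psi_sw_ne : Psi 2 F (sw : SpecialLinearGroup (Fin 2) F) ≠ 1 := by
  intro h
  rw [← map_one (Psi 2 F)] at h
  obtain ⟨c, hc, h1⟩ := exists_smul_of_Psi_eq h
  rw [coe_sw] at h1
  have := congrFun (congrFun h1 0) 1
  simp at this

theorem Psi_sv_ne : Psi 2 F (sv : SpecialLinearGroup (Fin 2) F) ≠ 1 := by
  intro h
  rw [← map_one (Psi 2 F)] at h
  obtain ⟨c, hc, h1⟩ := exists_smul_of_Psi_eq h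
  rw [coe_sv] at h1
  have := congrFun (congrFun h1 0) 1
  simp at this

theorem orderOf_Psi_sw : orderOf (Psi 2 F (sw : SpecialLinearGroup (Fin 2) F)) = 2 := by
  refine orderOf_eq_prime ?_ Psi_sw_ne
  rw [pow_two, ← map_mul, ← map_one (Psi 2 F)]
  refine Psi_eq_of_smul (c := -1) (by simp) ?_
  show !![(0 : F), 1; -1, 0] * !![(0 : F), 1; -1, 0] = (-1 : F) • (1 : Matrix (Fin 2) (Fin 2) F)
  ext i j
  fin_cases i <;> fin_cases j <;> simp [Matrix.mul_apply, Fin.sum_univ_two]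

theorem commute_phi_sw (σ : F ≃+* F) :
    Commute (phi 2 F σ) (Psi 2 F (sw : SpecialLinearGroup (Fin 2) F)) := by
  show _ * _ = _ * _
  rw [phi_mul_Psi, mapGL_sw]

theorem commute_phi_sv (σ : F ≃+* F) :
    Commute (phi 2 F σ) (Psi 2 F (sv : SpecialLinearGroup (Fin 2) F)) := by
  show _ * _ = _ * _
  rw [phi_mul_Psi, mapGL_sv]

theorem not_commute_sv_sw : ¬ Commute (Psi 2 F (sv : SpecialLinearGroup (Fin 2) F))
    (Psi 2 F (sw : SpecialLinearGroup (Fin 2) F)) := by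
  intro h
  have h0 : Psi 2 F ((sv : SpecialLinearGroup (Fin 2) F) * (sw : SpecialLinearGroup (Fin 2) F))
    = Psi 2 F ((sw : SpecialLinearGroup (Fin 2) F) * (sv : SpecialLinearGroup (Fin 2) F)) := by
    rw [map_mul, map_mul]
    exact h
  obtain ⟨c, hc, h1⟩ := exists_smul_of_Psi_eq h0
  have h2 : !![(1 : F), 1; 0, 1] * !![(0 : F), 1; -1, 0] =
    c • (!![(0 : F), 1; -1, 0] * !![(1 : F), 1; 0, 1]) := h1
  have := congrFun (congrFun h2 0) 0
  simp [Matrix.mul_apply, Fin.sum_univ_two] at this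

/-- the conjugate of `v` under `w` does not commute with `v` -/
theorem not_commute_conj_sw_sv : ¬ Commute (Psi 2 F (sw : SpecialLinearGroup (Fin 2) F) *
    Psi 2 F (sv : SpecialLinearGroup (Fin 2) F) * (Psi 2 F (sw : SpecialLinearGroup (Fin 2) F))⁻¹)
    (Psi 2 F (sv : SpecialLinearGroup (Fin 2) F)) := by
  intro h
  have h0 : Psi 2 F (sw * sv * sw⁻¹ * sv : SpecialLinearGroup (Fin 2) F) =
      Psi 2 F (sv * (sw * sv * sw⁻¹) : SpecialLinearGroup (Fin 2) F) := by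
    simp only [map_mul, map_inv]
    exact h
  obtain ⟨c, hc, h1⟩ := exists_smul_of_Psi_eq h0
  have h2 : !![(0 : F), 1; -1, 0] * !![(1 : F), 1; 0, 1] * !![(0 : F), -1; 1, 0] * !![(1 : F), 1; 0, 1]
    = c • (!![(1 : F), 1; 0, 1] * (!![(0 : F), 1; -1, 0] * !![(1 : F), 1; 0, 1] * !![(0 : F), -1; 1, 0])) := by
    have h3 : ((sw⁻¹ : SpecialLinearGroup (Fin 2) F) : Matrix (Fin 2) (Fin 2) F) = !![(0 : F), -1; 1, 0] := by
      rw [Matrix.SpecialLinearGroup.coe_inv]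
      show (!![(0 : F), 1; -1, 0]).adjugate = _
      rw [Matrix.adjugate_fin_two_of]
      simp
    rw [← h3]
    exact h1
  have := congrFun (congrFun h2 0) 0
  simp [Matrix.mul_apply, Fin.sum_univ_two] at this

end mats

end Cfsg.Agent.H439.NC
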