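import Mathlib
import Cfsg.Agent.H439.NC.Outer

/-!
# Groups between `PSL₂(F)` and its automorphism group satisfying the hypothesis of S3730: the three
cases of a field automorphism of prime order
-/

set_option autoImplicit false

namespace Cfsg.Agent.H439.NC

open Cfsg Matrix
open Cfsg.Agent.ClassicalGeometry.AutPSL.Root
open Cfsg.Agent.H199.PslAut

universe u v

variable {F : Type u} [Field F]

theorem orderOf_phi (σ : F ≃+* F) : orderOf (phi 2 F σ) = orderOf σ :=
  orderOf_injective (phi 2 F) (phi_injective le_rfl) σ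

theorem sv_pow (n : ℕ) : ((sv ^ n : SpecialLinearGroup (Fin 2) F) : Matrix (Fin 2) (Fin 2) F) =
    !![1, (n : F); 0, 1] := by
  induction n with
  | zero =>
    rw [pow_zero]
    show (1 : Matrix (Fin 2) (Fin 2) F) = _
    ext i j
    fin_cases i <;> fin_cases j <;> simp
  | succ n ih =>
    rw [pow_succ, Matrix.SpecialLinearGroup.coe_mul, ih]
    show !![1, (n : F); 0, 1] * !![(1 : F), 1; 0, 1] = _
    ext i j
    fin_cases i <;> fin_cases j <;> simp [Matrix.mul_apply, Fin.sum_univ_two, add_comm]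

theorem Psi_sv_pow_char (p : ℕ) [CharP F p] :
    (Psi 2 F (sv : SpecialLinearGroup (Fin 2) F)) ^ p = 1 := by
  have h1 : (sv : SpecialLinearGroup (Fin 2) F) ^ p = 1 := by
    apply Subtype.ext
    rw [sv_pow, CharP.cast_eq_zero]
    show _ = (1 : Matrix (Fin 2) (Fin 2) F)
    ext i j
    fin_cases i <;> fin_cases j <;> simp
  rw [← map_pow, ← map_pow, h1, map_one, map_one]

variable [Fintype F]

instance instFiniteMulAutPSLTwo : Finite (MulAut (ProjectiveSpecialLinearGroup (Fin 2) F)) :=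
  DFunLike.finite _

variable {Γ : Subgroup (MulAut (ProjectiveSpecialLinearGroup (Fin 2) F))}

/-- no pure field automorphism of odd order -/
theorem odd_case (h : EqNorm ↥Γ) (hΓ : ∀ x : SpecialLinearGroup (Fin 2) F, Psi 2 F x ∈ Γ)
    {σ : F ≃+* F} (hσ : phi 2 F σ ∈ Γ) (ho : Odd (orderOf σ)) (h1 : σ ≠ 1) : False := by
  have h2 := (norm_odd_coe h hσ (hΓ sw) (hΓ sv) orderOf_Psi_sw (by rwa [orderOf_phi])
    (by rwa [← map_one (phi 2 F), Ne, (phi_injective le_rfl).eq_iff]) (commute_phi_sw σ)).1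
    (by
      rw [(commute_phi_sv σ).symm.eq, mul_inv_cancel_right]
      exact Subgroup.mem_zpowers _)
  exact not_commute_sv_sw h2

/-- pure field automorphism of order two: only for `|F| = 4` -/
theorem two_case (h : EqNorm ↥Γ) (hΓ : ∀ x : SpecialLinearGroup (Fin 2) F, Psi 2 F x ∈ Γ)
    {σ : F ≃+* F} (hσ : phi 2 F σ ∈ Γ) (ho : orderOf σ = 2) : Fintype.card F = 4 := by
  obtain ⟨p, hp⟩ := CharP.exists F
  obtain ⟨n, hpp, hn⟩ := FiniteField.card F p
  have hfp : Fact p.Prime := ⟨hpp⟩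
  have hσ2 : orderOf (phi 2 F σ) = 2 := by rw [orderOf_phi, ho]
  by_cases hp2 : p = 2
  · subst hp2
    by_contra h4
    have hfn : Nat.card (F ≃+* F) = n := Lib.FieldAutCard.card_ringAut n.pos hn
    have h2n : 2 ∣ (n : ℕ) := by rw [← hfn, ← ho]; exact orderOf_dvd_natCard σ
    obtain ⟨m, hm⟩ := h2n
    have hF : Fintype.card F = (2 ^ m) ^ 2 := by rw [hn, hm, ← pow_mul, mul_comm]
    have hm2 : 2 ≤ m := by
      by_contra hlt
      have : m = 0 ∨ m = 1 := by omega
      rcases this with rfl | rfl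
      · have := n.pos; omega
      · exact h4 hF
    have hpow := H199.PslGraphField.eq_pow hF ho
    obtain ⟨ζ, hζ⟩ := IsCyclic.exists_generator (α := Fˣ)
    have hordζ : orderOf ζ = Fintype.card F - 1 := by
      rw [orderOf_eq_card_of_forall_mem_zpowers hζ, Nat.card_units, Nat.card_eq_fintype_card]
    set s : Fˣ := Units.map (σ : F →* F) ζ with hs
    have hs' : s = ζ ^ (2 ^ m) := by
      apply Units.ext
      rw [hs, Units.val_pow_eq_pow_val]
      exact hpow ζ
    have hsq : σ * σ = 1 := by rw [← pow_two, ← ho, pow_orderOf_eq_one]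
    have hσσ : ∀ x, σ (σ x) = x := fun x => DFunLike.congr_fun hsq x
    set a : Fˣ := ζ * s with ha
    have haσ : Units.map (σ : F →* F) a = a := by
      apply Units.ext
      show σ ((ζ : F) * σ ζ) = (ζ : F) * σ ζ
      rw [map_mul, hσσ, mul_comm]
    have ha1 : a ≠ 1 := by
      intro h1
      have h2 : ζ ^ (2 ^ m + 1) = 1 := by rw [pow_succ, ← hs', mul_comm]; exact h1
      have h3 := Nat.le_of_dvd (by positivity) (orderOf_dvd_of_pow_eq_one h2)
      rw [hordζ, hF] at h3
      have h5 : 4 ≤ 2 ^ m := by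
        calc 4 = 2 ^ 2 := by norm_num
          _ ≤ 2 ^ m := Nat.pow_le_pow_right (by norm_num) hm2
      have h6 : 2 ^ m + 2 < (2 ^ m) ^ 2 := by nlinarith
      omega
    have hab : (a : F) ≠ ((a⁻¹ : Fˣ) : F) := by
      intro h1
      apply ha1
      have h2 : a = a⁻¹ := Units.ext h1
      have h3 : a * a = 1 := by nth_rewrite 2 [h2]; rw [mul_inv_cancel]
      have h4 : ((a : F) - 1) ^ 2 = 0 := by
        have h5 : (a : F) * a = 1 := by rw [← Units.val_mul, h3, Units.val_one]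
        have h6 : (2 : F) = 0 := CharTwo.two_eq_zero
        linear_combination h5 + (1 - (a : F)) * h6
      exact Units.ext (sub_eq_zero.1 (pow_eq_zero_iff two_ne_zero |>.1 h4))
    -- the element
    obtain ⟨d, hd⟩ : ∃ d : SpecialLinearGroup (Fin 2) F, (d : GL (Fin 2) F) = gd a a⁻¹ := by
      refine ⟨⟨!![(a : F), 0; 0, ((a⁻¹ : Fˣ) : F)], ?_⟩, Units.ext rfl⟩
      simp [Matrix.det_fin_two]
    have hxΓ : Psi 2 F (gd a a⁻¹) ∈ Γ := by rw [← hd]; exact hΓ d
    have hxo : Odd (orderOf (Psi 2 F (gd a a⁻¹))) := by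
      have h1 : (Psi 2 F (gd a a⁻¹)) ^ (Fintype.card F - 1) = 1 := by
        rw [← map_pow, gd_pow, inv_pow, ← Nat.card_eq_fintype_card, ← Nat.card_units, pow_card_eq_one',
          inv_one, gd_one, map_one]
      refine Odd.of_dvd_nat ?_ (orderOf_dvd_of_pow_eq_one h1)
      rw [hn]
      have h2 : Even (2 ^ (n : ℕ)) := (Nat.even_pow.2 ⟨even_two, n.ne_zero⟩)
      have h3 : 0 < 2 ^ (n : ℕ) := by positivity
      obtain ⟨k, hk⟩ := h2
      exact ⟨k - 1, by omega⟩
    have hx1 : Psi 2 F (gd a a⁻¹) ≠ 1 := by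
      intro h1
      rw [← map_one (Psi 2 F)] at h1
      obtain ⟨c, hc, h2⟩ := exists_smul_of_Psi_eq h1
      rw [coe_gd] at h2
      have e0 := congrFun (congrFun h2 0) 0
      have e1 := congrFun (congrFun h2 1) 1
      simp at e0 e1
      rw [← e0] at e1
      apply hab
      rw [Units.val_inv_eq_inv_val]
      exact e1.symm
    have hcx : Commute (Psi 2 F (gd a a⁻¹)) (phi 2 F σ) := by
      symm
      show _ * _ = _ * _
      rw [phi_mul_Psi, mapGL_gd, map_inv, haσ]
    have h2 := (norm_odd_coe h hxΓ hσ (hΓ sv) hσ2 hxo hx1 hcx).2 (commute_phi_sv σ).symm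
    have h3 := commute_of_mem_zpowers h2
    have h0 : Psi 2 F ((sv : SpecialLinearGroup (Fin 2) F) * gd a a⁻¹ *
        ((sv⁻¹ : SpecialLinearGroup (Fin 2) F) : GL (Fin 2) F) * gd a a⁻¹) =
        Psi 2 F (gd a a⁻¹ * ((sv : SpecialLinearGroup (Fin 2) F) * gd a a⁻¹ *
        ((sv⁻¹ : SpecialLinearGroup (Fin 2) F) : GL (Fin 2) F))) := by
      simp only [map_mul, map_inv]
      exact h3
    obtain ⟨c, hc, h1⟩ := exists_smul_of_Psi_eq h0
    have h4 : !![(1 : F), 1; 0, 1] * !![(a : F), 0; 0, ((a⁻¹ : Fˣ) : F)] * !![(1 : F), -1; 0, 1] *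
        !![(a : F), 0; 0, ((a⁻¹ : Fˣ) : F)]
        = c • (!![(a : F), 0; 0, ((a⁻¹ : Fˣ) : F)] * (!![(1 : F), 1; 0, 1] *
          !![(a : F), 0; 0, ((a⁻¹ : Fˣ) : F)] * !![(1 : F), -1; 0, 1])) := by
      have h3 : ((sv⁻¹ : SpecialLinearGroup (Fin 2) F) : Matrix (Fin 2) (Fin 2) F) =
          !![(1 : F), -1; 0, 1] := by
        rw [Matrix.SpecialLinearGroup.coe_inv]
        show (!![(1 : F), 1; 0, 1]).adjugate = _
        rw [Matrix.adjugate_fin_two_of]
        simp
      rw [← h3]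
      exact h1
    generalize ((a⁻¹ : Fˣ) : F) = b at h4 hab
    have e00 := congrFun (congrFun h4 0) 0
    have e01 := congrFun (congrFun h4 0) 1
    simp only [Matrix.mul_apply, Fin.sum_univ_two, Matrix.smul_apply, smul_eq_mul] at e00 e01
    simp at e00 e01
    rw [e00] at e01
    apply hab
    have : ((a : F) - b) ^ 2 = 0 := by linear_combination e01
    exact sub_eq_zero.1 (pow_eq_zero_iff two_ne_zero |>.1 this)
  · exfalso
    have hodd : Odd p := hpp.odd_of_ne_two hp2
    have hxo : Odd (orderOf (Psi 2 F (sv : SpecialLinearGroup (Fin 2) F))) :=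
      Odd.of_dvd_nat hodd (orderOf_dvd_of_pow_eq_one (Psi_sv_pow_char p))
    have h2 := (norm_odd_coe h (hΓ sv) hσ (hΓ sw) hσ2 hxo Psi_sv_ne (commute_phi_sv σ).symm).2
      (commute_phi_sw σ).symm
    exact not_commute_conj_sw_sv (commute_of_mem_zpowers h2)

end Cfsg.Agent.H439.NC
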