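import Mathlib
import Cfsg.Agent.H439.NC.OuterCases

/-!
# Groups between `PSL₂(F)` and its automorphism group satisfying the hypothesis of S3730: the
`M₁₀`-type case
-/

set_option autoImplicit false

namespace Cfsg.Agent.H439.NC

open Cfsg Matrix
open Cfsg.Agent.ClassicalGeometry.AutPSL.Root
open Cfsg.Agent.H199.PslAut

universe u v

variable {F : Type u} [Field F] [Fintype F]

variable {Γ : Subgroup (MulAut (ProjectiveSpecialLinearGroup (Fin 2) F))}

omit [Fintype F] in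
/-- an automorphism cannot send a generator to its negative in odd characteristic -/
theorem no_neg (h2 : (2 : F) ≠ 0) {σ : F ≃+* F} {ζ : Fˣ} (hζ : ∀ x, x ∈ Subgroup.zpowers ζ)
    (h : σ ζ = -ζ) : False := by
  have h1 : (1 : F) + ζ ≠ 0 := by
    intro h1
    have h3 : (ζ : F) = -1 := by linear_combination h1
    rw [h3, map_neg, map_one] at h
    exact h2 (by linear_combination -h)
  obtain ⟨k, hk⟩ := Subgroup.mem_zpowers_iff.1 (hζ (Units.mk0 _ h1))
  have hk' : (1 : F) + ζ = (ζ : F) ^ k := by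
    have := congrArg Units.val hk
    rw [Units.val_zpow_eq_zpow_val] at this
    exact this.symm
  have h3 : σ ((ζ : F) ^ k) = (-1) ^ k * (ζ : F) ^ k := by
    rw [map_zpow₀, h, neg_eq_neg_one_mul, mul_zpow]
  rw [← hk', map_add, map_one, h] at h3
  rcases Int.even_or_odd k with hev | hod
  · rw [hev.neg_one_zpow, one_mul] at h3
    have h4 : (2 : F) * ζ = 0 := by linear_combination -h3
    rcases mul_eq_zero.1 h4 with h5 | h5
    · exact h2 h5
    · exact ζ.ne_zero h5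
  · rw [hod.neg_one_zpow] at h3
    exact h2 (by linear_combination h3)

theorem nonsq_case (h : EqNorm ↥Γ) (hΓ : ∀ x : SpecialLinearGroup (Fin 2) F, Psi 2 F x ∈ Γ)
    (h2 : (2 : F) ≠ 0) {σ : F ≃+* F} (ho : orderOf σ = 2) {ζ : Fˣ}
    (hζ : ∀ x, x ∈ Subgroup.zpowers ζ) (hb : Psi 2 F (gd ζ 1) * phi 2 F σ ∈ Γ) : False := by
  obtain ⟨p, hp⟩ := CharP.exists F
  obtain ⟨n, hpp, hn⟩ := FiniteField.card F p
  have hfp : Fact p.Prime := ⟨hpp⟩
  have hp2 : p ≠ 2 := by
    rintro rfl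
    exact h2 CharTwo.two_eq_zero
  have hfn : Nat.card (F ≃+* F) = n := Lib.FieldAutCard.card_ringAut n.pos hn
  have h2n : 2 ∣ (n : ℕ) := by rw [← hfn, ← ho]; exact orderOf_dvd_natCard σ
  obtain ⟨m, hm⟩ := h2n
  have hF : Fintype.card F = (p ^ m) ^ 2 := by rw [hn, hm, ← pow_mul, mul_comm]
  have hm1 : 1 ≤ m := by
    by_contra hlt
    have : m = 0 := by omega
    subst this
    have := n.pos; omega
  have hpow := H199.PslGraphField.eq_pow hF ho
  have hordζ : orderOf ζ = Fintype.card F - 1 := by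
    rw [orderOf_eq_card_of_forall_mem_zpowers hζ, Nat.card_units, Nat.card_eq_fintype_card]
  set s : Fˣ := Units.map (σ : F →* F) ζ with hs
  have hs' : s = ζ ^ (p ^ m) := by
    apply Units.ext
    rw [hs, Units.val_pow_eq_pow_val]
    exact hpow ζ
  have hsq : σ * σ = 1 := by rw [← pow_two, ← ho, pow_orderOf_eq_one]
  have hσσ : ∀ x, σ (σ x) = x := fun x => DFunLike.congr_fun hsq x
  have hss : Units.map (σ : F →* F) s = ζ := by
    apply Units.ext
    show σ (σ ζ) = ζ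
    exact hσσ _
  -- `q₀` is odd
  obtain ⟨k, hk⟩ : Odd (p ^ m) := (hpp.odd_of_ne_two hp2).pow
  have hq3 : 3 ≤ p ^ m := by
    have h1 := hpp.two_le
    have h3 : p ^ 1 ≤ p ^ m := Nat.pow_le_pow_right hpp.pos hm1
    rw [pow_one] at h3
    omega
  have hk1 : 1 ≤ k := by omega
  set b := Psi 2 F (gd ζ 1) * phi 2 F σ with hbdef
  have hbb : b * b = Psi 2 F (gd (ζ * s) 1) := by
    calc b * b = Psi 2 F (gd ζ 1) * (phi 2 F σ * Psi 2 F (gd ζ 1)) * phi 2 F σ := by
          rw [hbdef]; group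
      _ = Psi 2 F (gd ζ 1) * Psi 2 F (gd s 1) * (phi 2 F σ * phi 2 F σ) := by
          rw [phi_mul_Psi, mapGL_gd, map_one, ← hs]; group
      _ = _ := by rw [← map_mul (phi 2 F), hsq, map_one, mul_one, ← map_mul, gd_mul, mul_one]
  have huk : (ζ * s) ^ k = -1 := by
    have e1 : (ζ * s) ^ k = ζ ^ ((p ^ m + 1) * k) := by
      rw [hs', ← pow_succ', ← pow_mul]
    have hlt : (p ^ m + 1) * k * 2 = Fintype.card F - 1 := by
      rw [hF, hk]
      have : (2 * k + 1) ^ 2 = (2 * k + 1 + 1) * k * 2 + 1 := by ring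
      omega
    have e2 : (ζ ^ ((p ^ m + 1) * k)) ^ 2 = 1 := by
      rw [← pow_mul, hlt, ← hordζ, pow_orderOf_eq_one]
    have e3 : ζ ^ ((p ^ m + 1) * k) ≠ 1 := by
      intro h1
      have h3 := Nat.le_of_dvd (by positivity) (orderOf_dvd_of_pow_eq_one h1)
      rw [hordζ, ← hlt] at h3
      have : 0 < (p ^ m + 1) * k := by positivity
      omega
    rw [e1]
    apply Units.ext
    have e4 := congrArg Units.val e2
    rw [Units.val_pow_eq_pow_val, Units.val_one, sq_eq_one_iff] at e4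
    rcases e4 with e4 | e4
    · exact absurd (Units.ext e4) e3
    · rw [e4]; rfl
  have ht : (b * b) ^ k = Psi 2 F (gd (-1) 1) := by
    rw [hbb, ← map_pow, gd_pow, one_pow, huk]
  have htb : Psi 2 F (gd (-1 : Fˣ) 1) ∈ Subgroup.zpowers b := by
    rw [← ht]
    exact Subgroup.pow_mem _ (Subgroup.mul_mem _ (Subgroup.mem_zpowers b) (Subgroup.mem_zpowers b)) k
  have ht1 : Psi 2 F (gd (-1 : Fˣ) 1) ≠ 1 := by
    intro h1
    rw [← map_one (Psi 2 F)] at h1
    obtain ⟨c, hc, h3⟩ := exists_smul_of_Psi_eq h1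
    rw [coe_gd] at h3
    have e0 := congrFun (congrFun h3 0) 0
    have e1 := congrFun (congrFun h3 1) 1
    simp at e0 e1
    rw [← e0] at e1
    exact h2 (by linear_combination e1)
  have ht2 : orderOf (Psi 2 F (gd (-1 : Fˣ) 1)) = 2 := by
    refine orderOf_eq_prime ?_ ht1
    rw [← map_pow, gd_pow, one_pow, neg_one_sq, gd_one, map_one]
  have hcomm : Commute (Psi 2 F (sw : SpecialLinearGroup (Fin 2) F)) (Psi 2 F (gd (-1 : Fˣ) 1)) := by
    show _ * _ = _ * _
    rw [← map_mul (Psi 2 F), ← map_mul (Psi 2 F)]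
    refine Psi_eq_of_smul (c := -1) (by simp) ?_
    show !![(0 : F), 1; -1, 0] * !![((-1 : Fˣ) : F), 0; 0, ((1 : Fˣ) : F)] =
      (-1 : F) • (!![((-1 : Fˣ) : F), 0; 0, ((1 : Fˣ) : F)] * !![(0 : F), 1; -1, 0])
    ext i j
    fin_cases i <;> fin_cases j <;> simp [Matrix.mul_apply, Fin.sum_univ_two]
  have h3 := commute_of_mem_zpowers ((norm_invol_coe h hb (hΓ sw) ht2 htb).2 hcomm)
  -- the conjugate of `b`
  have hconj : Psi 2 F (sw : SpecialLinearGroup (Fin 2) F) * b *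
      (Psi 2 F (sw : SpecialLinearGroup (Fin 2) F))⁻¹ = Psi 2 F (gd 1 ζ) * phi 2 F σ := by
    have e1 : Psi 2 F (sw : SpecialLinearGroup (Fin 2) F) * Psi 2 F (gd ζ 1) =
        Psi 2 F (gd 1 ζ) * Psi 2 F (sw : SpecialLinearGroup (Fin 2) F) := by
      rw [← map_mul (Psi 2 F), ← map_mul (Psi 2 F)]
      congr 1
      apply Units.ext
      show !![(0 : F), 1; -1, 0] * !![((ζ : Fˣ) : F), 0; 0, ((1 : Fˣ) : F)] =
        (!![((1 : Fˣ) : F), 0; 0, ((ζ : Fˣ) : F)] * !![(0 : F), 1; -1, 0])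
      ext i j
      fin_cases i <;> fin_cases j <;> simp [Matrix.mul_apply, Fin.sum_univ_two]
    calc Psi 2 F (sw : SpecialLinearGroup (Fin 2) F) * b *
        (Psi 2 F (sw : SpecialLinearGroup (Fin 2) F))⁻¹
        = (Psi 2 F (sw : SpecialLinearGroup (Fin 2) F) * Psi 2 F (gd ζ 1)) * phi 2 F σ *
          (Psi 2 F (sw : SpecialLinearGroup (Fin 2) F))⁻¹ := by rw [hbdef]; group
      _ = Psi 2 F (gd 1 ζ) * (Psi 2 F (sw : SpecialLinearGroup (Fin 2) F) * phi 2 F σ) *
          (Psi 2 F (sw : SpecialLinearGroup (Fin 2) F))⁻¹ := by rw [e1]; group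
      _ = Psi 2 F (gd 1 ζ) * (phi 2 F σ * Psi 2 F (sw : SpecialLinearGroup (Fin 2) F)) *
          (Psi 2 F (sw : SpecialLinearGroup (Fin 2) F))⁻¹ := by rw [(commute_phi_sw σ).symm.eq]
      _ = _ := by group
  rw [hconj] at h3
  have h4 : Psi 2 F (gd s ζ) = Psi 2 F (gd ζ s) := by
    have e1 : Psi 2 F (gd 1 ζ) * phi 2 F σ * b = Psi 2 F (gd s ζ) := by
      calc Psi 2 F (gd 1 ζ) * phi 2 F σ * b =
            Psi 2 F (gd 1 ζ) * (phi 2 F σ * Psi 2 F (gd ζ 1)) * phi 2 F σ := by rw [hbdef]; group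
        _ = Psi 2 F (gd 1 ζ) * Psi 2 F (gd s 1) * (phi 2 F σ * phi 2 F σ) := by
          rw [phi_mul_Psi, mapGL_gd, map_one, ← hs]; group
        _ = _ := by
          rw [← map_mul (phi 2 F), hsq, map_one, mul_one, ← map_mul, gd_mul, mul_one, one_mul]
    have e2 : b * (Psi 2 F (gd 1 ζ) * phi 2 F σ) = Psi 2 F (gd ζ s) := by
      calc b * (Psi 2 F (gd 1 ζ) * phi 2 F σ) =
            Psi 2 F (gd ζ 1) * (phi 2 F σ * Psi 2 F (gd 1 ζ)) * phi 2 F σ := by rw [hbdef]; group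
        _ = Psi 2 F (gd ζ 1) * Psi 2 F (gd 1 s) * (phi 2 F σ * phi 2 F σ) := by
          rw [phi_mul_Psi, mapGL_gd, map_one, ← hs]; group
        _ = _ := by
          rw [← map_mul (phi 2 F), hsq, map_one, mul_one, ← map_mul, gd_mul, mul_one, one_mul]
    rw [← e1, ← e2]
    exact h3
  obtain ⟨c, hc, h5⟩ := exists_smul_of_Psi_eq h4
  rw [coe_gd, coe_gd] at h5
  have e0 := congrFun (congrFun h5 0) 0
  have e1 := congrFun (congrFun h5 1) 1
  simp at e0 e1
  have hsσ : (s : F) = σ ζ := rfl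
  have hcc : c * c = 1 := by
    have : (c * c - 1) * (ζ : F) = 0 := by linear_combination -e1 - c * e0
    rcases mul_eq_zero.1 this with h6 | h6
    · exact sub_eq_zero.1 h6
    · exact absurd h6 ζ.ne_zero
  rcases mul_self_eq_one_iff.1 hcc with rfl | rfl
  · -- `σ ζ = ζ`
    rw [one_mul] at e0
    have h6 : σ = 1 := by
      apply RingEquiv.ext
      intro x
      by_cases hx : x = 0
      · rw [hx, map_zero]; rfl
      · obtain ⟨j, hj⟩ := Subgroup.mem_zpowers_iff.1 (hζ (Units.mk0 x hx))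
        have h7 : x = (ζ : F) ^ j := by
          have := congrArg Units.val hj
          rw [Units.val_zpow_eq_zpow_val] at this
          exact this.symm
        rw [h7, map_zpow₀, ← hsσ, e0]
        rfl
    rw [h6, orderOf_one] at ho
    omega
  · exact no_neg h2 hζ (by rw [← hsσ, e0]; ring)

end Cfsg.Agent.H439.NC
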