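import Mathlib
import Cfsg.Agent.H439.NC.OuterNonsq
import Cfsg.Agent.S0252
import Cfsg.Agent.S0253

/-!
# Groups between `PSL₂(F)` and its automorphism group satisfying the hypothesis of S3730
-/

set_option autoImplicit false

namespace Cfsg.Agent.H439.NC

open Cfsg Matrix
open Cfsg.Agent.ClassicalGeometry.AutPSL.Root
open Cfsg.Agent.H199.PslAut

universe u v

section

variable {F : Type u} [Field F]

/-- an invertible matrix with square determinant induces an inner automorphism -/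
theorem exists_Psi_eq {A : GL (Fin 2) F} (h : IsSquare (GeneralLinearGroup.det A)) :
    ∃ x : SpecialLinearGroup (Fin 2) F, Psi 2 F A = Psi 2 F x := by
  obtain ⟨r, hr⟩ := h
  have h1 : (scal 2 F r⁻¹ * A).1.det = 1 := by
    have h2 : (scal 2 F r⁻¹ * A).1 = ((r⁻¹ : Fˣ) : F) • A.1 := by
      show (scalar (Fin 2) ((r⁻¹ : Fˣ) : F)) * A.1 = _
      rw [scalar_apply, ← smul_one_eq_diagonal, Matrix.smul_mul, one_mul]
    rw [h2, Matrix.det_smul, Fintype.card_fin]
    have h3 : A.1.det = r * r := congrArg Units.val hr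
    rw [h3, Units.val_inv_eq_inv_val]
    have := r.ne_zero
    field_simp
  refine ⟨⟨(scal 2 F r⁻¹ * A).1, h1⟩, ?_⟩
  have h2 : Psi 2 F A = Psi 2 F (scal 2 F r⁻¹ * A) := by
    rw [map_mul, Psi_scal, one_mul]
  rw [h2]
  congr 1
  exact Units.ext rfl

theorem isSquare_cases [Finite F] (a b : Fˣ) : IsSquare a ∨ IsSquare b ∨ IsSquare (a * b) := by
  obtain ⟨ζ, hζ⟩ := IsCyclic.exists_generator (α := Fˣ)
  obtain ⟨i, rfl⟩ := Subgroup.mem_zpowers_iff.1 (hζ a)
  obtain ⟨j, rfl⟩ := Subgroup.mem_zpowers_iff.1 (hζ b)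
  rcases Int.even_or_odd i with hi | hi
  · left; exact hi.isSquare_zpow ζ
  · rcases Int.even_or_odd j with hj | hj
    · right; left; exact hj.isSquare_zpow ζ
    · right; right
      rw [← _root_.zpow_add]
      exact (hi.add_odd hj).isSquare_zpow ζ

theorem pow_form (A : GL (Fin 2) F) (σ : F ≃+* F) (k : ℕ) :
    ∃ B : GL (Fin 2) F, (Psi 2 F A * phi 2 F σ) ^ k = Psi 2 F B * phi 2 F (σ ^ k) := by
  induction k with
  | zero => exact ⟨1, by simp⟩
  | succ k ih =>
    obtain ⟨B, hB⟩ := ih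
    refine ⟨B * mapGL (σ ^ k) A, ?_⟩
    rw [pow_succ, hB, pow_succ, map_mul (Psi 2 F), map_mul (phi 2 F)]
    calc Psi 2 F B * phi 2 F (σ ^ k) * (Psi 2 F A * phi 2 F σ)
        = Psi 2 F B * (phi 2 F (σ ^ k) * Psi 2 F A) * phi 2 F σ := by group
      _ = _ := by rw [phi_mul_Psi]; group

theorem sq_form (A : GL (Fin 2) F) (σ : F ≃+* F) :
    (Psi 2 F A * phi 2 F σ) ^ 2 = Psi 2 F (A * mapGL σ A) * phi 2 F (σ ^ 2) := by
  rw [pow_two, pow_two, map_mul (Psi 2 F), map_mul (phi 2 F)]
  calc Psi 2 F A * phi 2 F σ * (Psi 2 F A * phi 2 F σ)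
      = Psi 2 F A * (phi 2 F σ * Psi 2 F A) * phi 2 F σ := by group
    _ = _ := by rw [phi_mul_Psi]; group

theorem isSquare_det_mul_map [Finite F] (A : GL (Fin 2) F) (σ : F ≃+* F) :
    IsSquare (GeneralLinearGroup.det (A * mapGL σ A)) := by
  have h1 : GeneralLinearGroup.det (mapGL σ A) =
      Units.map (σ : F →* F) (GeneralLinearGroup.det A) := by
    apply Units.ext
    show (A.1.map σ).det = σ (A.1.det)
    exact (RingEquiv.map_det σ A.1).symm
  rw [map_mul, h1]
  rcases isSquare_cases (GeneralLinearGroup.det A)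
    (Units.map (σ : F →* F) (GeneralLinearGroup.det A)) with h | h | h
  · exact h.mul (h.map (Units.map (σ : F →* F)))
  · refine IsSquare.mul ?_ h
    have h3 := h.map (Units.map (σ.symm : F →* F))
    have h4 : Units.map (σ.symm : F →* F) (Units.map (σ : F →* F) (GeneralLinearGroup.det A)) =
        GeneralLinearGroup.det A := by
      apply Units.ext
      exact σ.symm_apply_apply _
    rwa [h4] at h3
  · exact h

end

variable {F : Type u} [Field F] [Fintype F]

variable {Γ : Subgroup (MulAut (ProjectiveSpecialLinearGroup (Fin 2) F))}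

theorem Psi_mem_of_isSquare (hΓ : ∀ x : SpecialLinearGroup (Fin 2) F, Psi 2 F x ∈ Γ)
    {A : GL (Fin 2) F} (h : IsSquare (GeneralLinearGroup.det A)) : Psi 2 F A ∈ Γ := by
  obtain ⟨x, hx⟩ := exists_Psi_eq h
  rw [hx]
  exact hΓ x

theorem outer_main (h : EqNorm ↥Γ) (hΓ : ∀ x : SpecialLinearGroup (Fin 2) F, Psi 2 F x ∈ Γ) :
    (Fintype.card F = 4 ∧ ∃ σ : F ≃+* F, orderOf σ = 2 ∧ phi 2 F σ ∈ Γ) ∨
    (∀ (A : GL (Fin 2) F) (σ : F ≃+* F), Psi 2 F A * phi 2 F σ ∈ Γ → σ = 1) := by
  by_contra hcon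
  push Not at hcon
  obtain ⟨h4, A, σ, hA, hσ⟩ := hcon
  have hfin : Finite (F ≃+* F) := DFunLike.finite _
  -- pass to prime order
  obtain ⟨B, τ, hB, hτ⟩ : ∃ (B : GL (Fin 2) F) (τ : F ≃+* F), Psi 2 F B * phi 2 F τ ∈ Γ ∧
      (orderOf τ).Prime := by
    have h1 : orderOf σ ≠ 1 := by rwa [Ne, orderOf_eq_one_iff]
    set r := (orderOf σ).minFac with hr
    have hrp : r.Prime := Nat.minFac_prime h1
    obtain ⟨k, hk⟩ : r ∣ orderOf σ := Nat.minFac_dvd _
    obtain ⟨B, hB⟩ := pow_form A σ k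
    refine ⟨B, σ ^ k, ?_, ?_⟩
    · rw [← hB]; exact Subgroup.pow_mem _ hA k
    · have hk0 : k ≠ 0 := by
        rintro rfl
        have := orderOf_pos σ
        omega
      have h2 : orderOf (σ ^ k) = r := by
        rw [orderOf_pow_of_dvd hk0 (hk ▸ dvd_mul_left k r)]
        rw [hk, Nat.mul_div_cancel _ (Nat.pos_of_ne_zero hk0)]
      rw [h2]
      exact hrp
  have hτ1 : τ ≠ 1 := by
    rintro rfl
    rw [orderOf_one] at hτ
    exact Nat.not_prime_one hτ
  rcases hτ.eq_two_or_odd' with h2 | hodd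
  · -- order two
    by_cases hsqB : IsSquare (GeneralLinearGroup.det B)
    · have h3 : phi 2 F τ ∈ Γ := by
        have := Subgroup.mul_mem _ (Subgroup.inv_mem _ (Psi_mem_of_isSquare hΓ hsqB)) hB
        rwa [inv_mul_cancel_left] at this
      exact h4 (two_case h hΓ h3 h2) τ h2 h3
    · obtain ⟨ζ, hζ⟩ := IsCyclic.exists_generator (α := Fˣ)
      have hζs : ¬ IsSquare ζ := by
        intro hs
        apply hsqB
        obtain ⟨i, hi⟩ := Subgroup.mem_zpowers_iff.1 (hζ (GeneralLinearGroup.det B))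
        rw [← hi]
        exact hs.zpow i
      have h2' : (2 : F) ≠ 0 := by
        intro h0
        apply hsqB
        have hc : CharP F 2 := CharTwo.of_one_ne_zero_of_two_eq_zero one_ne_zero h0
        obtain ⟨y, hy⟩ := FiniteField.isSquare_of_char_two (ringChar.eq F 2 ▸ rfl)
          (GeneralLinearGroup.det B : F)
        have hy0 : y ≠ 0 := by
          rintro rfl
          rw [mul_zero] at hy
          exact (GeneralLinearGroup.det B).ne_zero hy
        exact ⟨Units.mk0 y hy0, Units.ext hy⟩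
      have hsq2 : IsSquare (GeneralLinearGroup.det (gd ζ 1 * B⁻¹)) := by
        rw [map_mul, map_inv, det_gd, mul_one]
        have h3 : ¬ IsSquare (GeneralLinearGroup.det B)⁻¹ := by
          rwa [isSquare_inv]
        rcases isSquare_cases ζ (GeneralLinearGroup.det B)⁻¹ with h5 | h5 | h5
        · exact absurd h5 hζs
        · exact absurd h5 h3
        · exact h5
      have h3 : Psi 2 F (gd ζ 1) * phi 2 F τ ∈ Γ := by
        have := Subgroup.mul_mem _ (Psi_mem_of_isSquare hΓ hsq2) hB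
        rwa [map_mul, map_inv, mul_assoc, inv_mul_cancel_left] at this
      exact nonsq_case h hΓ h2' h2 hζ h3
  · -- odd order
    have h3 : phi 2 F (τ ^ 2) ∈ Γ := by
      have h4 := Subgroup.pow_mem _ hB 2
      rw [sq_form] at h4
      have := Subgroup.mul_mem _ (Subgroup.inv_mem _
        (Psi_mem_of_isSquare hΓ (isSquare_det_mul_map B τ))) h4
      rwa [inv_mul_cancel_left] at this
    have h5 : orderOf (τ ^ 2) = orderOf τ :=
      Nat.Coprime.orderOf_pow hodd.coprime_two_right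
    refine odd_case h hΓ h3 (by rwa [h5]) ?_
    intro h6
    rw [h6, orderOf_one] at h5
    exact hτ1 (orderOf_eq_one_iff.1 h5.symm)

end Cfsg.Agent.H439.NC
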