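import Mathlib
import Cfsg.Agent.H439.NC.OuterMain

/-!
# Groups between `PSL₂(F)` and its automorphism group satisfying the hypothesis of S3730: conclusion
-/

set_option autoImplicit false

namespace Cfsg.Agent.H439.NC

open Cfsg Matrix
open Cfsg.Agent.ClassicalGeometry.AutPSL.Root
open Cfsg.Agent.H199.PslAut

universe u v

section

variable {F : Type u} [Field F]

theorem ker_Psi : (Psi 2 F).ker = Subgroup.center (GL (Fin 2) F) := by
  ext g
  rw [MonoidHom.mem_ker, Psi_eq_one_iff le_rfl, Matrix.GeneralLinearGroup.center_eq_range_scalar]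
  exact exists_congr fun u => eq_comm

/-- `PGL₂(F)` is the group of automorphisms induced by matrices -/
theorem pgl_equiv_range : Nonempty (ProjGenLinGroup (Fin 2) F ≃* ↥(Psi 2 F).range) := by
  have h1 : Nonempty (GL (Fin 2) F ⧸ Subgroup.center (GL (Fin 2) F) ≃* ↥(Psi 2 F).range) :=
    ⟨(QuotientGroup.quotientMulEquivOfEq ker_Psi.symm).trans
      (QuotientGroup.quotientKerEquivRange (Psi 2 F))⟩
  exact h1

theorem conj_injective_psl : Function.Injective
    (MulAut.conj : ProjectiveSpecialLinearGroup (Fin 2) F →* _) := by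
  rw [injective_iff_map_eq_one]
  intro a ha
  obtain ⟨x, rfl⟩ := pr_surjective a
  rw [← Psi_coe, ← map_one (Psi 2 F)] at ha
  obtain ⟨c, hc, h1⟩ := exists_smul_of_Psi_eq ha
  rw [← map_one pr]
  refine (pr_eq_of_smul (c := c) ?_).symm
  exact h1

end

variable {F : Type u} [Field F] [Fintype F]

variable {Γ : Subgroup (MulAut (ProjectiveSpecialLinearGroup (Fin 2) F))}

/-- no field automorphisms: the group is `PSL₂(F)` or `PGL₂(F)` -/
theorem case_trivial (hΓ : ∀ x : SpecialLinearGroup (Fin 2) F, Psi 2 F x ∈ Γ)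
    (h : ∀ (A : GL (Fin 2) F) (σ : F ≃+* F), Psi 2 F A * phi 2 F σ ∈ Γ → σ = 1) :
    Nonempty (↥Γ ≃* ProjectiveSpecialLinearGroup (Fin 2) F) ∨
      Nonempty (↥Γ ≃* ProjGenLinGroup (Fin 2) F) := by
  have h1 : ∀ g ∈ Γ, ∃ A : GL (Fin 2) F, g = Psi 2 F A := by
    intro g hg
    rcases exists_form le_rfl g with ⟨A, σ, rfl⟩ | ⟨h3, -⟩
    · have := h A σ hg
      subst this
      exact ⟨A, by rw [map_one, mul_one]⟩
    · omega
  by_cases h2 : ∀ A : GL (Fin 2) F, Psi 2 F A ∈ Γ → IsSquare (GeneralLinearGroup.det A)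
  · left
    have h3 : Γ = (MulAut.conj : ProjectiveSpecialLinearGroup (Fin 2) F →* _).range := by
      apply le_antisymm
      · intro g hg
        obtain ⟨A, rfl⟩ := h1 g hg
        obtain ⟨x, hx⟩ := exists_Psi_eq (h2 A hg)
        rw [hx, Psi_coe]
        exact ⟨_, rfl⟩
      · rintro _ ⟨a, rfl⟩
        obtain ⟨x, rfl⟩ := pr_surjective a
        rw [← Psi_coe]
        exact hΓ x
    rw [h3]
    exact ⟨(MonoidHom.ofInjective conj_injective_psl).symm⟩
  · right
    push Not at h2
    obtain ⟨A, hA, hns⟩ := h2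
    have h3 : Γ = (Psi 2 F).range := by
      apply le_antisymm
      · intro g hg
        obtain ⟨A, rfl⟩ := h1 g hg
        exact ⟨A, rfl⟩
      · rintro _ ⟨B, rfl⟩
        by_cases hB : IsSquare (GeneralLinearGroup.det B)
        · exact Psi_mem_of_isSquare hΓ hB
        · have h4 : IsSquare (GeneralLinearGroup.det (B * A)) := by
            rw [map_mul]
            rcases isSquare_cases (GeneralLinearGroup.det B) (GeneralLinearGroup.det A) with
              h5 | h5 | h5
            · exact absurd h5 hB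
            · exact absurd h5 hns
            · exact h5
          have h5 := Subgroup.mul_mem _ (Psi_mem_of_isSquare hΓ h4) (Subgroup.inv_mem _ hA)
          rwa [map_mul, mul_inv_cancel_right] at h5
    rw [h3]
    exact ⟨(pgl_equiv_range (F := F)).some.symm⟩

/-- over a field with four elements and with a field automorphism: the whole automorphism group -/
theorem case_four (hF : Fintype.card F = 4)
    (hΓ : ∀ x : SpecialLinearGroup (Fin 2) F, Psi 2 F x ∈ Γ) {σ : F ≃+* F}
    (ho : orderOf σ = 2) (hσ : phi 2 F σ ∈ Γ) : Γ = ⊤ := by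
  have hf2 : Fact (Nat.Prime 2) := ⟨Nat.prime_two⟩
  have hfn : Nat.card (F ≃+* F) = 2 := Lib.FieldAutCard.card_ringAut (p := 2) (f := 2)
    (by norm_num) (by rw [hF]; norm_num)
  have hfin : Finite (F ≃+* F) := DFunLike.finite _
  have hall : ∀ τ : F ≃+* F, phi 2 F τ ∈ Γ := by
    intro τ
    have h1 : Subgroup.zpowers σ = ⊤ := by
      apply Subgroup.eq_top_of_card_eq
      rw [Nat.card_zpowers, ho, hfn]
    have h2 : τ ∈ Subgroup.zpowers σ := by rw [h1]; exact Subgroup.mem_top _
    obtain ⟨k, rfl⟩ := Subgroup.mem_zpowers_iff.1 h2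
    rw [map_zpow]
    exact Subgroup.zpow_mem _ hσ k
  have hz : (2 : F) = 0 := by
    have h2 := FiniteField.cast_card_eq_zero F
    rw [hF] at h2
    have h3 : (2 : F) * 2 = 0 := by
      rw [← h2]; push_cast; ring
    exact mul_self_eq_zero.1 h3
  rw [eq_top_iff]
  intro g _
  rcases exists_form le_rfl g with ⟨A, τ, rfl⟩ | ⟨h3, -⟩
  · refine Subgroup.mul_mem _ (Psi_mem_of_isSquare hΓ ?_) (hall τ)
    have hc : CharP F 2 := CharTwo.of_one_ne_zero_of_two_eq_zero one_ne_zero hz
    obtain ⟨y, hy⟩ := FiniteField.isSquare_of_char_two (ringChar.eq F 2 ▸ rfl)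
      (GeneralLinearGroup.det A : F)
    have hy0 : y ≠ 0 := by
      rintro rfl
      rw [mul_zero] at hy
      exact (GeneralLinearGroup.det A).ne_zero hy
    exact ⟨Units.mk0 y hy0, Units.ext hy⟩
  · omega

/-- `Aut(PSL₂(4)) ≅ PGL₂(5)` -/
theorem aut_four (hF : Fintype.card F = 4) :
    Nonempty (MulAut (ProjectiveSpecialLinearGroup (Fin 2) F) ≃*
      ProjGenLinGroup (Fin 2) (ZMod 5)) := by
  have hf5 : Fact (Nat.Prime 5) := ⟨Nat.prime_five⟩
  obtain ⟨e1⟩ := S0252.result hF
  obtain ⟨e2⟩ := S0253.result (F := ZMod 5) (ZMod.card 5)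
  have e3 : ProjectiveSpecialLinearGroup (Fin 2) F ≃*
      ProjectiveSpecialLinearGroup (Fin 2) (ZMod 5) := e1.trans e2.symm
  have h4 : (Psi 2 (ZMod 5)).range = ⊤ := by
    rw [eq_top_iff]
    intro g _
    rcases exists_form le_rfl g with ⟨A, τ, rfl⟩ | ⟨h3, -⟩
    · have : τ = 1 := by
        apply RingEquiv.ext
        intro x
        have h5 : (τ : ZMod 5 →+* ZMod 5) = RingHom.id _ := Subsingleton.elim _ _
        exact RingHom.congr_fun h5 x
      subst this
      exact ⟨A, by rw [map_one, mul_one]⟩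
    · omega
  obtain ⟨e5⟩ := pgl_equiv_range (F := ZMod 5)
  rw [h4] at e5
  exact ⟨(MulAut.congr e3).trans (Subgroup.topEquiv.symm.trans e5.symm)⟩

/-- The conclusion for almost simple groups with socle `PSL₂(F)`. -/
theorem of_socle {G : Type v} [Group G] [Finite G] (h : EqNorm G) {F : Type} [Field F] [Fintype F]
    (hF3 : 3 < Fintype.card F) (L : Subgroup G) [L.Normal]
    (hL : Subgroup.centralizer (L : Set G) = ⊥)
    (e : ↥L ≃* ProjectiveSpecialLinearGroup (Fin 2) F) :
    ∃ (F : Type) (_ : Field F) (_ : Fintype F), 3 < Fintype.card F ∧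
      (Nonempty (G ≃* Matrix.ProjectiveSpecialLinearGroup (Fin 2) F) ∨
        Nonempty (G ≃* Matrix.ProjGenLinGroup (Fin 2) F)) := by
  set φ : G →* MulAut (ProjectiveSpecialLinearGroup (Fin 2) F) :=
    (MulAut.congr e).toMonoidHom.comp (MulAut.conjNormal : G →* MulAut ↥L) with hφ
  have hφe : ∀ (g : G) (a : ProjectiveSpecialLinearGroup (Fin 2) F),
      φ g a = e (MulAut.conjNormal g (e.symm a)) := fun g a => rfl
  have hinj : Function.Injective φ := by
    rw [injective_iff_map_eq_one]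
    intro g hg
    have h1 : g ∈ Subgroup.centralizer (L : Set G) := by
      rw [Subgroup.mem_centralizer_iff]
      intro l hl
      have h2 := hφe g (e ⟨l, hl⟩)
      rw [hg, e.symm_apply_apply] at h2
      have h3 := e.injective h2
      have h4 := congrArg Subtype.val h3
      rw [MulAut.conjNormal_apply] at h4
      exact (mul_inv_eq_iff_eq_mul.1 h4.symm).symm
    rwa [hL, Subgroup.mem_bot] at h1
  have hE : EqNorm ↥φ.range := h.congr (MonoidHom.ofInjective hinj).symm
  have hΓ : ∀ x : SpecialLinearGroup (Fin 2) F, Psi 2 F x ∈ φ.range := by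
    intro x
    refine ⟨(e.symm (pr x) : L), ?_⟩
    rw [Psi_coe]
    apply MulEquiv.ext
    intro a
    rw [hφe, MulAut.conj_apply]
    have h1 : MulAut.conjNormal ((e.symm (pr x) : ↥L) : G) (e.symm a) =
        e.symm (pr x) * e.symm a * (e.symm (pr x))⁻¹ := by
      apply Subtype.ext
      rw [MulAut.conjNormal_apply]
      rfl
    rw [h1, map_mul, map_mul, map_inv, e.apply_symm_apply, e.apply_symm_apply]
  rcases outer_main hE hΓ with ⟨h4, σ, ho, hσ⟩ | h1
  · have h5 := case_four h4 hΓ ho hσ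
    have hf5 : Fact (Nat.Prime 5) := ⟨Nat.prime_five⟩
    obtain ⟨e6⟩ := aut_four h4
    refine ⟨ZMod 5, inferInstance, inferInstance, by rw [ZMod.card]; norm_num, Or.inr ⟨?_⟩⟩
    refine (MonoidHom.ofInjective hinj).trans (MulEquiv.trans ?_ e6)
    rw [h5]
    exact Subgroup.topEquiv
  · refine ⟨F, inferInstance, inferInstance, hF3, ?_⟩
    rcases case_trivial hΓ h1 with ⟨⟨e2⟩⟩ | ⟨⟨e2⟩⟩
    · exact Or.inl ⟨(MonoidHom.ofInjective hinj).trans e2⟩
    · exact Or.inr ⟨(MonoidHom.ofInjective hinj).trans e2⟩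

end Cfsg.Agent.H439.NC
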