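import Mathlib
import Cfsg.Agent.H439.NC.Basic

/-!
# The alternating group of degree seven does not satisfy the hypothesis of S3730
-/

set_option autoImplicit false

namespace Cfsg.Agent.H439.NC

open Cfsg Equiv

universe u v

/-- the involution `(0 1)(2 3)` -/
def aT : ↥(alternatingGroup (Fin 7)) := ⟨swap 0 1 * swap 2 3, by rw [Equiv.Perm.mem_alternatingGroup]; decide⟩

/-- the three-cycle `(4 5 6)` -/
def aX : ↥(alternatingGroup (Fin 7)) := ⟨swap 4 5 * swap 5 6, by rw [Equiv.Perm.mem_alternatingGroup]; decide⟩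

/-- the three-cycle `(0 1 2)` -/
def aG : ↥(alternatingGroup (Fin 7)) := ⟨swap 0 1 * swap 1 2, by rw [Equiv.Perm.mem_alternatingGroup]; decide⟩

theorem not_alt {G : Type u} [Group G] [Finite G] (h : EqNorm G)
    (e : G ≃* ↥(alternatingGroup (Fin 7))) : False := by
  have h1 : EqNorm ↥(alternatingGroup (Fin 7)) := h.congr e.symm
  have ht : orderOf aT = 2 := orderOf_eq_prime (by decide) (by decide)
  have hx : orderOf aX = 3 := by
    have : Fact (Nat.Prime 3) := ⟨Nat.prime_three⟩
    exact orderOf_eq_prime (by decide) (by decide)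
  have hc : Commute aX aT := by
    show aX * aT = aT * aX
    decide
  have h2 := h1.norm_odd ht (by rw [hx]; decide) (by decide) hc aG
  have h3 : aG * aX * aG⁻¹ = aX := by decide
  rw [h3] at h2
  have h4 : aG * aT = aT * aG := h2.1 (Subgroup.mem_zpowers aX)
  revert h4
  decide

end Cfsg.Agent.H439.NC
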