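import Mathlib
import Cfsg.Agent.H439.NC.Basic
import Cfsg.Agent.ThreePrime.SzRel

/-!
# The Suzuki groups do not satisfy the hypothesis of S3730
-/

set_option autoImplicit false

namespace Cfsg.Agent.H439.NC

open Cfsg Cfsg.Agent.ThreePrime.SzRel

universe u v

variable {G : Type u} [Group G] [Finite G]

omit [Finite G] in
theorem mem_zpowers_of_pow_four {a x : G} (ha : a ^ 4 = 1) (hx : x ∈ Subgroup.zpowers a) :
    x = 1 ∨ x = a ∨ x = a ^ 2 ∨ x = a ^ 3 := by
  obtain ⟨k, rfl⟩ := Subgroup.mem_zpowers_iff.1 hx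
  have h1 : a ^ k = a ^ (k % 4) := by
    conv_lhs => rw [← Int.emod_add_mul_ediv k 4, zpow_add, zpow_mul]
    norm_cast
    rw [ha, one_zpow, mul_one]
  rw [h1]
  have h2 := Int.emod_nonneg k (show (4 : ℤ) ≠ 0 by norm_num)
  have h3 := Int.emod_lt_of_pos k (show (0 : ℤ) < 4 by norm_num)
  generalize k % 4 = m at h2 h3
  interval_cases m
  · left; simp
  · right; left; simp
  · right; right; left; norm_cast
  · right; right; right; norm_cast

/-- The Suzuki groups are excluded. -/
theorem not_suz (h : EqNorm G) (hS : Cfsg.Lie.IsoSuzuki G) : False := by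
  obtain ⟨F, iF, iF', m, hm, hc, ⟨R⟩⟩ := exists_rel hS
  -- an element outside the prime field
  obtain ⟨c, hc0, hc1⟩ : ∃ c : F, c ≠ 0 ∧ c ≠ 1 := by
    have h2 : 2 < Fintype.card F := by
      rw [hc]
      calc 2 < 2 ^ 3 := by norm_num
        _ ≤ 2 ^ (2 * m + 1) := Nat.pow_le_pow_right (by norm_num) (by omega)
    classical
    have h3 : ({0, 1} : Finset F).card < (Finset.univ : Finset F).card := by
      rw [Finset.card_univ]
      exact lt_of_le_of_lt Finset.card_le_two h2
    obtain ⟨c, -, hc⟩ := Finset.exists_mem_notMem_of_card_lt_card h3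
    simp only [Finset.mem_insert, Finset.mem_singleton, not_or] at hc
    exact ⟨c, hc.1, hc.2⟩
  have hz : (1 : F) + 1 = 0 := R.add_self 1
  have e2 : R.u 1 0 ^ 2 = R.u 0 1 := by
    rw [pow_two, R.u_mul, hz, map_one]; congr 1; ring
  have e4 : R.u 1 0 ^ 4 = 1 := by
    rw [show 4 = 2 * 2 from rfl, pow_mul, e2, pow_two, R.u_mul, hz, zero_mul, add_zero,
      R.u_zero]
  have e3 : R.u 1 0 ^ 3 = R.u 1 1 := by
    rw [show 3 = 2 + 1 from rfl, pow_succ, e2, R.u_mul]
    congr 1 <;> simp
  have ht : orderOf (R.u 0 1) = 2 := by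
    apply orderOf_eq_prime
    · rw [pow_two, R.u_mul, hz, zero_mul, add_zero, R.u_zero]
    · intro h1
      rw [← R.u_zero] at h1
      exact one_ne_zero (R.u_inj h1).2
  have hmem : R.u 0 1 ∈ Subgroup.zpowers (R.u 1 0) := by
    rw [← e2]
    exact Subgroup.pow_mem _ (Subgroup.mem_zpowers _) 2
  have hcomm : Commute (R.u c 0) (R.u 0 1) := by
    show R.u c 0 * R.u 0 1 = R.u 0 1 * R.u c 0
    rw [R.u_mul, R.u_mul, map_zero]
    congr 1 <;> ring
  have hkey := (h.norm_invol ht hmem (R.u c 0)).2 hcomm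
  -- the equation `θ c = c` or `θ c = c + 1` forces `c ^ 2 = c`
  have hsq : c ^ 2 = c → False := by
    intro h1
    have h2 : c * (c - 1) = 0 := by linear_combination h1
    rcases mul_eq_zero.1 h2 with h3 | h3
    · exact hc0 h3
    · exact hc1 (sub_eq_zero.1 h3)
  have hne : c + 1 ≠ c := by
    intro h1
    exact one_ne_zero (add_eq_left.1 h1)
  have hL : R.u c 0 * R.u 1 0 = R.u (c + 1) c := by
    rw [R.u_mul, map_one]; congr 1; ring
  rcases mem_zpowers_of_pow_four e4 hkey with h1 | h1 | h1 | h1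
  · have h2 := conj_eq_one_iff.1 h1
    rw [← R.u_zero] at h2
    exact one_ne_zero (R.u_inj h2).1
  · rw [mul_inv_eq_iff_eq_mul, hL, R.u_mul] at h1
    have h2 := (R.u_inj h1).2
    have h3 : R.θ c = c := by linear_combination -h2
    apply hsq
    rw [← R.sq, h3, h3]
  · rw [mul_inv_eq_iff_eq_mul, hL, e2, R.u_mul] at h1
    have h2 := (R.u_inj h1).1
    exact hne (by linear_combination h2)
  · rw [mul_inv_eq_iff_eq_mul, hL, e3, R.u_mul] at h1
    have h2 := (R.u_inj h1).2
    have h3 : R.θ c = c + 1 := by linear_combination -h2 - hz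
    apply hsq
    rw [← R.sq, h3, map_add, map_one, h3]
    linear_combination hz

end Cfsg.Agent.H439.NC
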