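import Mathlib
import Cfsg.Agent.H439.NC.NoSuz
import Cfsg.Agent.ClassicalGeometry.AutPSL.Root

/-!
# The group `PSL₃(4)` does not satisfy the hypothesis of S3730
-/

set_option autoImplicit false

namespace Cfsg.Agent.H439.NC

open Cfsg Matrix
open Cfsg.Agent.ClassicalGeometry.AutPSL.Root

universe u v

variable {F : Type u} [Field F]

/-- the upper unitriangular matrix with entries `x, y, z` -/
def ut (x y z : F) : SpecialLinearGroup (Fin 3) F :=
  ⟨!![1, x, z; 0, 1, y; 0, 0, 1], by simp [Matrix.det_fin_three]⟩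

theorem ut_mul (x y z x' y' z' : F) : ut x y z * ut x' y' z' = ut (x + x') (y + y') (z + z' + x * y') := by
  apply Subtype.ext
  show !![1, x, z; 0, 1, y; 0, 0, 1] * !![1, x', z'; 0, 1, y'; 0, 0, 1] =
    !![1, x + x', z + z' + x * y'; 0, 1, y + y'; 0, 0, 1]
  ext i j
  fin_cases i <;> fin_cases j <;> simp [Matrix.mul_apply, Fin.sum_univ_three] <;> ring

theorem ut_zero : ut (0 : F) 0 0 = 1 := by
  apply Subtype.ext
  show !![1, (0 : F), 0; 0, 1, 0; 0, 0, 1] = 1
  ext i j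
  fin_cases i <;> fin_cases j <;> simp

theorem pr_ut_inj {x y z x' y' z' : F} (h : pr (ut x y z) = pr (ut x' y' z')) :
    x = x' ∧ y = y' ∧ z = z' := by
  obtain ⟨c, hc⟩ := exists_smul_of_pr_eq h
  have h1 : (!![1, x', z'; 0, 1, y'; 0, 0, 1] : Matrix (Fin 3) (Fin 3) F) =
    c • !![1, x, z; 0, 1, y; 0, 0, 1] := hc
  have e00 := congrFun (congrFun h1 0) 0
  have e01 := congrFun (congrFun h1 0) 1
  have e02 := congrFun (congrFun h1 0) 2
  have e12 := congrFun (congrFun h1 1) 2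
  simp at e00 e01 e02 e12
  subst e00
  simp at e01 e02 e12
  exact ⟨e01.symm, e12.symm, e02.symm⟩

theorem not_l3 {G : Type v} [Group G] [Finite G] (h : EqNorm G) [Fintype F]
    (hF : Fintype.card F = 4) (e : G ≃* ProjectiveSpecialLinearGroup (Fin 3) F) : False := by
  have hfin : Finite (ProjectiveSpecialLinearGroup (Fin 3) F) := Finite.of_equiv _ e.toEquiv
  have h1 : EqNorm (ProjectiveSpecialLinearGroup (Fin 3) F) := h.congr e.symm
  have hz : (1 : F) + 1 = 0 := by
    have h2 := FiniteField.cast_card_eq_zero F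
    rw [hF] at h2
    have h3 : ((1 : F) + 1) * (1 + 1) = 0 := by
      rw [← h2]; push_cast; ring
    exact mul_self_eq_zero.1 h3
  obtain ⟨c, hc0, hc1⟩ : ∃ c : F, c ≠ 0 ∧ c ≠ 1 := by
    have h2 : 2 < Fintype.card F := by rw [hF]; norm_num
    classical
    have h3 : ({0, 1} : Finset F).card < (Finset.univ : Finset F).card := by
      rw [Finset.card_univ]
      exact lt_of_le_of_lt Finset.card_le_two h2
    obtain ⟨c, -, hc⟩ := Finset.exists_mem_notMem_of_card_lt_card h3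
    simp only [Finset.mem_insert, Finset.mem_singleton, not_or] at hc
    exact ⟨c, hc.1, hc.2⟩
  have f2 : (ut 1 1 0 : SpecialLinearGroup (Fin 3) F) ^ 2 = ut 0 0 1 := by
    rw [pow_two, ut_mul, hz]; congr 1; ring
  have f4 : (ut 1 1 0 : SpecialLinearGroup (Fin 3) F) ^ 4 = 1 := by
    rw [show 4 = 2 * 2 from rfl, pow_mul, f2, pow_two, ut_mul, hz, zero_mul, add_zero,
      ut_zero]
  have f3 : (ut 1 1 0 : SpecialLinearGroup (Fin 3) F) ^ 3 = ut 1 1 1 := by
    rw [pow_succ, f2, ut_mul]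
    congr 1 <;> simp
  have e2 : (pr (ut (1 : F) 1 0)) ^ 2 = pr (ut 0 0 1) := by rw [← map_pow, f2]
  have e4 : (pr (ut (1 : F) 1 0)) ^ 4 = 1 := by rw [← map_pow, f4, map_one]
  have e3 : (pr (ut (1 : F) 1 0)) ^ 3 = pr (ut 1 1 1) := by rw [← map_pow, f3]
  have ht : orderOf (pr (ut (0 : F) 0 1)) = 2 := by
    apply orderOf_eq_prime
    · rw [← e2, ← pow_mul, e4]
    · intro h1
      rw [← map_one pr, ← ut_zero] at h1
      exact one_ne_zero (pr_ut_inj h1).2.2
  have hmem : pr (ut (0 : F) 0 1) ∈ Subgroup.zpowers (pr (ut (1 : F) 1 0)) := by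
    rw [← e2]
    exact Subgroup.pow_mem _ (Subgroup.mem_zpowers _) 2
  have hcomm : Commute (pr (ut c 0 0)) (pr (ut (0 : F) 0 1)) := by
    show pr (ut c 0 0) * pr (ut 0 0 1) = pr (ut 0 0 1) * pr (ut c 0 0)
    rw [← map_mul, ← map_mul, ut_mul, ut_mul]
    congr 2 <;> ring
  have hkey := (h1.norm_invol ht hmem (pr (ut c 0 0))).2 hcomm
  have hL : pr (ut c 0 0) * pr (ut 1 1 0) = pr (ut (c + 1) 1 c) := by
    rw [← map_mul, ut_mul]; congr 2 <;> ring
  rcases mem_zpowers_of_pow_four e4 hkey with h1 | h1 | h1 | h1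
  · have h2 := conj_eq_one_iff.1 h1
    rw [← map_one pr, ← ut_zero] at h2
    exact one_ne_zero (pr_ut_inj h2).1
  · rw [mul_inv_eq_iff_eq_mul, hL, ← map_mul, ut_mul] at h1
    have h2 := (pr_ut_inj h1).2.2
    exact hc0 (by linear_combination h2)
  · rw [mul_inv_eq_iff_eq_mul, hL, e2, ← map_mul, ut_mul] at h1
    have h2 := (pr_ut_inj h1).2.1
    exact one_ne_zero (α := F) (by linear_combination h2)
  · rw [mul_inv_eq_iff_eq_mul, hL, e3, ← map_mul, ut_mul] at h1
    have h2 := (pr_ut_inj h1).2.2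
    exact hc1 (by linear_combination h2)

end Cfsg.Agent.H439.NC
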