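import Mathlib
import Cfsg.Agent.H439.NC.Basic
import Cfsg.Agent.Lib.MinNormalNonabelian

/-!
# Reduction of S3730 to an almost simple group
-/

set_option autoImplicit false

namespace Cfsg.Agent.H439.NC

open Cfsg Cfsg.Agent.Lib.MinNormal Cfsg.Agent.Lib.MinNormalNonabelian

open scoped commutatorElement

universe u v

variable {G : Type u} [Group G] [Finite G]

/-- If all cyclic subgroups are normal the group is solvable. -/
theorem solvable_of_cyclic_normal {H : Type v} [Group H]
    (hn : ∀ x g : H, g * x * g⁻¹ ∈ Subgroup.zpowers x) : Group.IsSolvable H := by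
  have h0 : ∀ x a b : H, a * (b * x * b⁻¹) * a⁻¹ = b * (a * x * a⁻¹) * b⁻¹ := by
    intro x a b
    obtain ⟨m, hm⟩ := Subgroup.mem_zpowers_iff.1 (hn x a)
    obtain ⟨n, hn'⟩ := Subgroup.mem_zpowers_iff.1 (hn x b)
    rw [← hm, ← hn', ← conj_zpow, ← conj_zpow, ← hm, ← hn', ← zpow_mul, ← zpow_mul, mul_comm]
  have h1 : commutator H ≤ Subgroup.center H := by
    rw [commutator_def, Subgroup.commutator_le]
    intro a _ b _
    rw [Subgroup.mem_center_iff]
    intro x
    have h2 := h0 x a⁻¹ b⁻¹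
    rw [commutatorElement_def]
    have h3 : (a * b * a⁻¹ * b⁻¹)⁻¹ * x * (a * b * a⁻¹ * b⁻¹) = x := by
      calc (a * b * a⁻¹ * b⁻¹)⁻¹ * x * (a * b * a⁻¹ * b⁻¹)
          = b * a * (b⁻¹ * (a⁻¹ * x * a⁻¹⁻¹) * b⁻¹⁻¹) * a⁻¹ * b⁻¹ := by group
        _ = b * a * (a⁻¹ * (b⁻¹ * x * b⁻¹⁻¹) * a⁻¹⁻¹) * a⁻¹ * b⁻¹ := by rw [← h2]
        _ = x := by group
    calc x * (a * b * a⁻¹ * b⁻¹) = (a * b * a⁻¹ * b⁻¹) *
          ((a * b * a⁻¹ * b⁻¹)⁻¹ * x * (a * b * a⁻¹ * b⁻¹)) := by group
      _ = _ := by rw [h3]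
  rw [Group.isSolvable_iff_subgroup_quotient (Subgroup.center H)]
  refine ⟨Group.isSolvable_of_comm fun a b => ?_, ?_⟩
  · exact Subtype.ext ((Subgroup.mem_center_iff.1 b.2 a.1))
  refine Group.isSolvable_of_comm fun a b => ?_
  induction a using QuotientGroup.induction_on with
  | H a =>
    induction b using QuotientGroup.induction_on with
    | H b =>
      rw [← QuotientGroup.mk_mul, ← QuotientGroup.mk_mul, QuotientGroup.eq]
      have h2 : ⁅b⁻¹, a⁻¹⁆ ∈ commutator H :=
        Subgroup.commutator_mem_commutator (Subgroup.mem_top _) (Subgroup.mem_top _)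
      have h3 := h1 h2
      rw [commutatorElement_def] at h3
      simpa [mul_assoc] using h3

/-- The centralizers of involutions are solvable. -/
theorem EqNorm.solvable (h : EqNorm G) (t : G) (ht : orderOf t = 2) :
    Group.IsSolvable ↥(Subgroup.centralizer ({t} : Set G)) := by
  have hfact : Fact (Nat.Prime 2) := ⟨Nat.prime_two⟩
  have h1 := h.hnc t ht
  obtain ⟨P, N, hN, hc⟩ := h1
  have hc' := Transfer.Residual.pResidual_le_of_isPGroup_quotient (p := 2)
    (P.isPGroup'.of_equiv hc.symm.QuotientMulEquiv.symm)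
  have hodd : Odd (Nat.card N) := by
    rw [← hc.index_eq_card, Nat.odd_iff, ← Nat.two_dvd_ne_zero]
    exact P.not_dvd_index
  have hcm : ∀ g : ↥(Subgroup.centralizer ({t} : Set G)), Commute (g : G) t := by
    intro g
    exact (Subgroup.mem_centralizer_singleton_iff.1 g.2)
  have hsN : Group.IsSolvable N := by
    apply solvable_of_cyclic_normal
    intro x g
    by_cases hx1 : x = 1
    · rw [hx1, mul_one, mul_inv_cancel]; exact Subgroup.one_mem _
    have hx : Odd (orderOf (x.1 : G)) := by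
      rw [Subgroup.orderOf_coe, Subgroup.orderOf_coe]
      exact Odd.of_dvd_nat hodd (orderOf_dvd_natCard x)
    have h2 := (h.norm_odd (x := (x.1 : G)) ht hx
        (by simpa using hx1) (hcm x.1) (g.1 : G)).2 (hcm g.1)
    obtain ⟨k, hk⟩ := Subgroup.mem_zpowers_iff.1 h2
    exact Subgroup.mem_zpowers_iff.2 ⟨k, Subtype.ext (Subtype.ext (by simpa using hk))⟩
  rw [Group.isSolvable_iff_subgroup_quotient N]
  refine ⟨hsN, ?_⟩
  have h3 : IsPGroup 2 (↥(Subgroup.centralizer ({t} : Set G)) ⧸ N) :=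
    P.isPGroup'.of_equiv hc.symm.QuotientMulEquiv.symm
  have h4 := h3.isNilpotent
  infer_instance

theorem reduce (FT : ∀ (K : Type u) [Group K] [Finite K], Odd (Nat.card K) → Group.IsSolvable K)
    [Nontrivial G] (hss : ∀ N : Subgroup G, N.Normal → Group.IsSolvable ↥N → N = ⊥)
    (h : EqNorm G) : ∃ L : Subgroup G, L.Normal ∧ IsSimpleGroup L ∧ ¬ IsMulCommutative L ∧
      Subgroup.centralizer (L : Set G) = ⊥ := by
  have hfact : Fact (Nat.Prime 2) := ⟨Nat.prime_two⟩
  obtain ⟨N, ⟨hN, hN1⟩, hmin'⟩ := Set.exists_min_image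
    {N : Subgroup G | N.Normal ∧ N ≠ ⊥} (fun N => Nat.card N) (Set.toFinite _)
    ⟨⊤, inferInstance, top_ne_bot⟩
  have hmin : ∀ M : Subgroup G, M.Normal → M ≤ N → M = ⊥ ∨ M = N := by
    intro M hM hMN
    by_cases hM1 : M = ⊥
    · exact Or.inl hM1
    · exact Or.inr (Subgroup.eq_of_le_of_card_ge hMN (hmin' M ⟨hM, hM1⟩))
  have hna : ¬ ∀ x ∈ N, ∀ y ∈ N, Commute x y := by
    intro hc
    exact hN1 (hss N hN (Group.isSolvable_of_comm fun a b =>
      Subtype.ext (hc a.1 a.2 b.1 b.2)))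
  obtain ⟨⟨T, hT⟩, hind, hsup, hsimple, hcent, hconj⟩ := nonabelian_structure N hmin hna
  have hnorm : ∀ S ∈ minSet N, N ≤ Subgroup.normalizer (S : Set G) := fun S hS => hS.2.2.1
  have hle : ∀ S ∈ minSet N, S ≤ N := fun S hS => hS.1
  have hns : ∀ S ∈ minSet N, ¬ Group.IsSolvable S := by
    intro S hS hs
    have h1 := hsimple S hS
    rw [← IsSimpleGroup.comm_iff_isSolvable] at hs
    obtain ⟨x, hx⟩ := exists_ne (1 : S)
    apply hx
    apply Subtype.ext
    exact hcent S hS x.1 x.2 fun t ht => congrArg Subtype.val (hs x ⟨t, ht⟩)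
  have hev : 2 ∣ Nat.card T := by
    by_contra h2
    exact hns T hT (FT T (by rwa [← Nat.not_even_iff_odd, even_iff_two_dvd]))
  obtain ⟨⟨t, htT⟩, ht⟩ := exists_prime_orderOf_dvd_card' 2 hev
  have ht' : orderOf t = 2 := by rw [← ht]; exact (Subgroup.orderOf_mk t htT).symm
  have hsol := h.solvable t ht'
  have huniq : ∀ S ∈ minSet N, S = T := by
    intro S hS
    by_contra hne
    apply hns S hS
    have h1 : S ≤ Subgroup.centralizer ({t} : Set G) := by
      intro s hs
      rw [Subgroup.mem_centralizer_singleton_iff]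
      exact (commute_of_mem hind hnorm hle hT hS (Ne.symm hne) htT hs).symm
    exact Group.isSolvable_of_isSolvable_injective (Subgroup.inclusion_injective h1)
  have hNT : N = T := by
    rw [← hsup]
    apply le_antisymm
    · exact sSup_le fun S hS => (huniq S hS).le
    · exact le_sSup hT
  subst hNT
  refine ⟨N, hN, hsimple N hT, ?_, ?_⟩
  · intro hc
    exact hna fun x hx y hy => congrArg Subtype.val (hc.is_comm.comm ⟨x, hx⟩ ⟨y, hy⟩)
  · apply hss _ inferInstance
    have h1 : Subgroup.centralizer (N : Set G) ≤ Subgroup.centralizer ({t} : Set G) :=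
      Subgroup.centralizer_le (by simpa using htT)
    exact Group.isSolvable_of_isSolvable_injective (Subgroup.inclusion_injective h1)

end Cfsg.Agent.H439.NC
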